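import Groth.Agent.Lib.HilbSam.Graded
import Groth.Agent.Lib.K0Sub.Basic
import Mathlib

/-!
# Hilbert functions with values in `K₀`
-/

set_option autoImplicit false

noncomputable section

open CategoryTheory

namespace GrothLib.HilbK0

universe u

variable {A : Type u} [CommRing A]

/-- The class of a finite module. -/
def cl (A : Type u) [CommRing A] (M : Type u) [AddCommGroup M] [Module A M] :
    KZero.K0sub (fun X : ModuleCat.{u} A => Module.Finite A X) :=
  KZero.clSub (fun X : ModuleCat.{u} A => Module.Finite A X) (ModuleCat.of A M)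

theorem cl_exact {M N P : Type u} [AddCommGroup M] [Module A M] [AddCommGroup N] [Module A N]
    [AddCommGroup P] [Module A P] [IsNoetherian A M] (f : N →ₗ[A] M) (g : M →ₗ[A] P)
    (hf : Function.Injective f) (hg : Function.Surjective g) (H : Function.Exact f g) :
    cl A M = cl A N + cl A P := by
  haveI : IsNoetherian A N := isNoetherian_of_injective f hf
  haveI : IsNoetherian A P := isNoetherian_of_surjective g (LinearMap.range_eq_top.mpr hg)
  let S : ShortComplex (ModuleCat.{u} A) :=
    ShortComplex.mk (ModuleCat.ofHom f) (ModuleCat.ofHom g) (by ext x; exact H.apply_apply_eq_zero x)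
  have hS : S.ShortExact :=
    { exact := (ShortComplex.ShortExact.moduleCat_exact_iff_function_exact S).mpr H
      mono_f := (ModuleCat.mono_iff_injective S.f).mpr hf
      epi_g := (ModuleCat.epi_iff_surjective S.g).mpr hg }
  exact GrothLib.K0Sub.clSub_add (P := fun X : ModuleCat.{u} A => Module.Finite A X) hS
    (inferInstanceAs (Module.Finite A N)) (inferInstanceAs (Module.Finite A M))
    (inferInstanceAs (Module.Finite A P))

/-- `f` is eventually a combination of the `C (i, k)`, `k < d`. -/
def IsChooseForm (d : ℕ) {G : Type*} [AddCommGroup G] (f : ℕ → G) : Prop :=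
  ∃ c : Fin d → G, ∃ N : ℕ, ∀ i ≥ N, f i = ∑ k : Fin d, ((i.choose (k : ℕ) : ℕ) : ℤ) • c k

theorem IsChooseForm.sub {d : ℕ} {G : Type*} [AddCommGroup G] {f g : ℕ → G}
    (hf : IsChooseForm d f) (hg : IsChooseForm d g) : IsChooseForm d (fun i => f i - g i) := by
  obtain ⟨c, N, hc⟩ := hf
  obtain ⟨c', N', hc'⟩ := hg
  refine ⟨fun k => c k - c' k, max N N', fun i hi => ?_⟩
  beta_reduce
  rw [hc i (le_of_max_le_left hi), hc' i (le_of_max_le_right hi), ← Finset.sum_sub_distrib]
  exact Finset.sum_congr rfl fun k _ => by rw [smul_sub]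

theorem IsChooseForm.sum_step {d : ℕ} {G : Type*} [AddCommGroup G] {f D : ℕ → G}
    (hD : IsChooseForm d D) {N : ℕ} (h : ∀ i ≥ N, f (i + 1) - f i = D i) :
    IsChooseForm (d + 1) f := by
  obtain ⟨c, M, hc⟩ := hD
  set g : ℕ → G := fun i => f i - ∑ k : Fin d, ((i.choose ((k : ℕ) + 1) : ℕ) : ℤ) • c k with hg
  have hconst : ∀ i ≥ max N M, g i = g (max N M) := by
    intro i hi
    induction i, hi using Nat.le_induction with
    | base => rfl
    | succ i hi ih =>
      rw [← ih, hg]
      have e1 := h i (le_of_max_le_left hi)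
      rw [hc i (le_of_max_le_right hi)] at e1
      simp only
      rw [sub_eq_sub_iff_sub_eq_sub, e1, ← Finset.sum_sub_distrib]
      refine Finset.sum_congr rfl fun k _ => ?_
      rw [Nat.choose_succ_succ', Nat.cast_add, add_smul, add_sub_cancel_right]
  refine ⟨Fin.cons (g (max N M)) c, max N M, fun i hi => ?_⟩
  rw [Fin.sum_univ_succ]
  simp only [Fin.cons_zero, Fin.cons_succ, Fin.val_zero, Fin.val_succ, Nat.choose_zero_right,
    Nat.cast_one, one_smul]
  rw [← hconst i hi, hg]
  simp

/-- The class function of an eventually generated system in `d` variables. -/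
theorem isChooseForm_cl (d : ℕ) : ∀ (V : ℕ → Type u) [∀ i, AddCommGroup (V i)]
    [∀ i, Module A (V i)] (x : Fin d → ∀ i, V i →ₗ[A] V (i + 1)),
    (∀ j l i (v : V i), x j (i + 1) (x l i v) = x l (i + 1) (x j i v)) →
    (∀ i, IsNoetherian A (V i)) → GrothLib.HilbSam.EvGen V x →
    IsChooseForm d fun i => cl A (V i) := by
  induction d with
  | zero =>
    intro V _ _ x _ _ hgen
    obtain ⟨N, hN⟩ := hgen (fun i => ⊤) (fun j => j.elim0)
    refine ⟨Fin.elim0, N + 1, fun i hi => ?_⟩
    obtain ⟨i, rfl⟩ : ∃ i', i = i' + 1 := ⟨i - 1, by omega⟩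
    have h0 : (⊤ : Submodule A (V (i + 1))) = ⊥ := le_bot_iff.mp ((hN i (by omega)).trans (by simp))
    have : Subsingleton (V (i + 1)) := Submodule.subsingleton_iff A |>.mp (subsingleton_of_top_le_bot h0.le)
    simpa [cl] using GrothLib.K0Sub.clSub_isZero (ModuleCat.isZero_of_subsingleton (ModuleCat.of A (V (i + 1))))
  | succ d ih =>
    intro V _ _ x hcomm hfin hgen
    let y : ∀ i, V i →ₗ[A] V (i + 1) := x (Fin.last d)
    -- the kernel
    let K : ℕ → Type u := fun i => LinearMap.ker (y i)
    let xK : Fin d → ∀ i, LinearMap.ker (y i) →ₗ[A] LinearMap.ker (y (i + 1)) := fun j i =>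
      (x j.castSucc i).restrict fun v hv => by
        rw [LinearMap.mem_ker] at hv ⊢
        show x (Fin.last d) (i + 1) _ = 0
        rw [hcomm, show x (Fin.last d) i v = 0 from hv, map_zero]
    have hK := ih (fun i => LinearMap.ker (y i)) xK
      (fun j l i v => Subtype.ext (hcomm _ _ _ _))
      (fun i => haveI := hfin i; inferInstance)
      (fun W hW => by
        obtain ⟨N, hN⟩ := hgen (fun i => (W i).map (LinearMap.ker (y i)).subtype) (fun j i => by
          rintro _ ⟨_, ⟨w, hw, rfl⟩, rfl⟩
          induction j using Fin.lastCases with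
          | last =>
            have h0 : x (Fin.last d) i (w : V i) = 0 := w.2
            simp only [Submodule.coe_subtype, h0]
            exact zero_mem _
          | cast j => exact ⟨xK j i w, hW j i ⟨w, hw, rfl⟩, rfl⟩)
        refine ⟨N, fun i hi w hw => ?_⟩
        have h1 := hN i hi ⟨w, hw, rfl⟩
        have h2 : (⨆ j, ((W i).map (LinearMap.ker (y i)).subtype).map (x j i)) ≤
            (⨆ j, (W i).map (xK j i)).map (LinearMap.ker (y (i + 1))).subtype := by
          refine iSup_le fun j => ?_
          rintro _ ⟨_, ⟨z, hz, rfl⟩, rfl⟩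
          induction j using Fin.lastCases with
          | last =>
            have h0 : x (Fin.last d) i (z : V i) = 0 := z.2
            simp only [Submodule.coe_subtype, h0]
            exact zero_mem _
          | cast j => exact ⟨xK j i z, Submodule.mem_iSup_of_mem j ⟨z, hz, rfl⟩, rfl⟩
        obtain ⟨z, hz, e⟩ := h2 h1
        exact (Subtype.ext e : z = w) ▸ hz)
    -- the cokernel, shifted
    let R : ∀ i, Submodule A (V (i + 1)) := fun i => LinearMap.range (y i)
    let xQ : Fin d → ∀ i, (V (i + 1) ⧸ R i) →ₗ[A] (V (i + 1 + 1) ⧸ R (i + 1)) := fun j i =>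
      (R i).mapQ (R (i + 1)) (x j.castSucc (i + 1)) (by
        rintro _ ⟨v, rfl⟩
        exact ⟨x j.castSucc i v, (hcomm _ _ _ _)⟩)
    have hQ := ih (fun i => V (i + 1) ⧸ R i) xQ
      (fun j l i v => by
        obtain ⟨v, rfl⟩ := (R i).mkQ_surjective v
        show (R (i + 1 + 1)).mkQ _ = (R (i + 1 + 1)).mkQ _
        rw [hcomm])
      (fun i => haveI := hfin (i + 1); inferInstance)
      (fun W hW => by
        let W' : ∀ i, Submodule A (V i) := fun i => match i with
          | 0 => ⊥
          | i + 1 => (W i).comap (R i).mkQ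
        obtain ⟨N, hN⟩ := hgen W' (fun j i => by
          rintro _ ⟨v, hv, rfl⟩
          induction j using Fin.lastCases with
          | last =>
            show (R i).mkQ _ ∈ W i
            rw [Submodule.mkQ_apply, (Submodule.Quotient.mk_eq_zero (R i)).mpr ⟨v, rfl⟩]
            exact zero_mem _
          | cast j =>
            rcases i with _ | i
            · show (R 0).mkQ _ ∈ W 0
              rw [(Submodule.mem_bot A).mp hv, map_zero, map_zero]
              exact zero_mem _
            · exact hW j i ⟨(R i).mkQ v, hv, rfl⟩)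
        refine ⟨N, fun i hi w hw => ?_⟩
        obtain ⟨v, rfl⟩ := (R (i + 1)).mkQ_surjective w
        have h1 : v ∈ ⨆ j, (W' (i + 1)).map (x j (i + 1)) := hN (i + 1) (by omega) hw
        have h2 : (⨆ j, (W' (i + 1)).map (x j (i + 1))) ≤
            (⨆ j, (W i).map (xQ j i)).comap (R (i + 1)).mkQ := by
          refine iSup_le fun j => ?_
          rintro _ ⟨z, hz, rfl⟩
          rw [Submodule.mem_comap]
          induction j using Fin.lastCases with
          | last =>
            rw [Submodule.mkQ_apply, (Submodule.Quotient.mk_eq_zero (R (i + 1))).mpr ⟨z, rfl⟩]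
            exact zero_mem _
          | cast j => exact Submodule.mem_iSup_of_mem j ⟨(R i).mkQ z, hz, rfl⟩
        exact h2 h1)
    haveI := hfin
    have hstep : ∀ i ≥ 0, cl A (V (i + 1)) - cl A (V i) =
        cl A (V (i + 1) ⧸ R i) - cl A (LinearMap.ker (y i)) := by
      intro i _
      have h1 := cl_exact (LinearMap.ker (y i)).subtype (y i).rangeRestrict
        (LinearMap.ker (y i)).injective_subtype (y i).surjective_rangeRestrict
        (LinearMap.exact_iff.mpr (by rw [LinearMap.ker_rangeRestrict, Submodule.range_subtype]))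

      have h2 := cl_exact (R i).subtype (R i).mkQ (R i).injective_subtype (R i).mkQ_surjective
        (LinearMap.exact_subtype_mkQ (R i))
      have h3 : cl A (LinearMap.range (y i)) = cl A (R i) := rfl
      rw [h1, h2, h3]; abel
    exact IsChooseForm.sum_step (hQ.sub hK) hstep

end GrothLib.HilbK0
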